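import Cfsg.Agent.Lib.GWKlein.Consumers.AbelianReduce
import Cfsg.Agent.Lib.Recognition.SparseOrders.Simple

/-!
# Groups of order not divisible by 8

A non-solvable one with trivial odd core has a normal `PSL(2,q)`, `q ≡ 3, 5 (mod 8)`, of odd index,
with trivial centraliser.
-/

set_option autoImplicit false
set_option linter.style.haveILetI false
set_option linter.unusedSectionVars false

namespace CfsgLib.GWKlein.Consumers

open Subgroup

universe u

variable {G : Type u} [Group G] [Finite G]

/-- A group of order not divisible by 4 is solvable. -/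
theorem isSolvable_of_not_four (h : ¬ 4 ∣ Nat.card G) : Group.IsSolvable G := by
  haveI : Fact (Nat.Prime 2) := ⟨Nat.prime_two⟩
  obtain ⟨S⟩ : Nonempty (Sylow 2 G) := inferInstance
  refine CfsgLib.Recognition.SparseOrders.isSolvable_of_sylow_le_two S ?_
  obtain ⟨n, hn⟩ := S.2.exists_card_eq
  rw [hn]
  have : n ≤ 1 := by
    by_contra hlt
    exact h (((pow_dvd_pow 2 (show 2 ≤ n by omega)).trans (dvd_of_eq hn.symm)).trans (card_subgroup_dvd_card _))
  exact (Nat.pow_le_pow_right two_pos this).trans_eq (pow_one 2)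

/-- A non-solvable group of order not divisible by 8, modulo its odd core. -/
theorem exists_psl_threeFive (hK : SimpleKlein.{u}) (h8 : ¬ 8 ∣ Nat.card G) (hO : Cfsg.oddCore G = ⊥)
    (hns : ¬ Group.IsSolvable G) :
    ∃ N : Subgroup G, N.Normal ∧ Odd N.index ∧ IsPSLThreeFive N ∧ centralizer (N : Set G) = ⊥ := by
  classical
  haveI : Fact (Nat.Prime 2) := ⟨Nat.prime_two⟩
  haveI : Nontrivial G := by
    by_contra h
    rw [not_nontrivial_iff_subsingleton] at h
    exact hns inferInstance
  have hfour : ∀ L : Subgroup G, ¬ Group.IsSolvable L → 4 ∣ Nat.card L := fun L hL => by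
    by_contra h
    exact hL (isSolvable_of_not_four h)
  have hss : ∀ N : Subgroup G, N.Normal → Group.IsSolvable ↥N → N = ⊥ := by
    intro N hN hNs
    haveI := hN
    haveI := hNs
    by_contra hN1
    haveI : Nontrivial N := (nontrivial_iff_ne_bot N).2 hN1
    set F := (Cfsg.fittingSubgroup N).map N.subtype with hF
    haveI hFn : F.Normal := inferInstance
    have hF1 : F ≠ ⊥ := fun h => CfsgLib.Solvable.Cores.fittingSubgroup_ne_bot (G := N)
      ((map_eq_bot_iff_of_injective _ N.subtype_injective).1 h)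
    have hF2 : IsPGroup 2 F := by
      have hcore : Cfsg.pPrimeCore 2 N = ⊥ := by
        have h1 : ((Cfsg.pPrimeCore 2 N).map N.subtype) ≤ Cfsg.oddCore G := CfsgLib.Solvable.Cores.le_pPrimeCore
          (by rw [card_map_of_injective N.subtype_injective]; exact CfsgLib.Solvable.Cores.coprime_card_pPrimeCore 2)
        rw [hO, le_bot_iff, map_eq_bot_iff_of_injective _ N.subtype_injective] at h1
        exact h1
      exact ((CfsgLib.Solvable.Cores.fittingSubgroup_eq_pCore 2 hcore) ▸
        CfsgLib.Solvable.Cores.isPGroup_pCore 2 : IsPGroup 2 (Cfsg.fittingSubgroup N)).map _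
    haveI : Nontrivial F := (nontrivial_iff_ne_bot F).2 hF1
    obtain ⟨k, hk⟩ := hF2.exists_card_eq
    have h2F : 2 ∣ Nat.card F := by
      rw [hk]
      refine dvd_pow_self 2 fun e => ?_
      rw [e, pow_zero] at hk
      have := Finite.one_lt_card (α := F)
      omega
    haveI : Group.IsNilpotent F := hF2.isNilpotent
    haveI hQ : Group.IsSolvable (G ⧸ F) := isSolvable_of_not_four fun h4 => h8 (by
      rw [card_eq_card_quotient_mul_card_subgroup F]
      exact mul_dvd_mul h4 h2F)
    refine hns (CfsgLib.Sectional.OddCoreA8.isSolvable_of_ker (QuotientGroup.mk' F) ?_ hQ)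
    rw [QuotientGroup.ker_mk']
    infer_instance
  have hcomm : ∀ L K : Subgroup G, ¬ Group.IsSolvable L → (∀ l ∈ L, ∀ k ∈ K, Commute l k) →
      Group.IsSolvable K := by
    intro L K hL hLK
    by_contra hK'
    -- the commutative subgroup `L ⊓ K` and the two four-groups give order divisible by eight
    haveI : Fact (Nat.Prime 2) := ⟨Nat.prime_two⟩
    obtain ⟨P⟩ : Nonempty (Sylow 2 L) := inferInstance
    obtain ⟨Q⟩ : Nonempty (Sylow 2 K) := inferInstance
    have hP4 : 2 ^ 2 ∣ Nat.card P := P.pow_dvd_card_of_pow_dvd_card (by simpa using hfour L hL)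
    have hQ4 : 2 ^ 2 ∣ Nat.card Q := Q.pow_dvd_card_of_pow_dvd_card (by simpa using hfour K hK')
    set P' := (P : Subgroup L).map L.subtype with hP'
    set Q' := (Q : Subgroup K).map K.subtype with hQ'
    have hPQ : P' ≤ normalizer (Q' : Set G) := by
      rintro _ ⟨l, -, rfl⟩
      refine mem_normalizer_fintype fun k hk => ?_
      obtain ⟨k', hk', rfl⟩ := hk
      show (l : G) * (k' : G) * (l : G)⁻¹ ∈ Q'
      rw [(hLK _ l.2 _ k'.2).eq, mul_inv_cancel_right]
      exact ⟨k', hk', rfl⟩
    have hPp : IsPGroup 2 P' := P.2.map _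
    have hQp : IsPGroup 2 Q' := Q.2.map _
    by_cases hd : P' ⊓ Q' = ⊥
    · -- independent
      haveI : Finite ↥(P' ⊔ Q') := inferInstance
      have hinj : Function.Injective (fun x : P' × Q' => (⟨(x.1 : G) * (x.2 : G),
          mul_mem (mem_sup_left x.1.2) (mem_sup_right x.2.2)⟩ : ↥(P' ⊔ Q'))) := by
        intro x y h
        exact Subgroup.mul_injective_of_disjoint (disjoint_iff.2 hd) (congrArg Subtype.val h)
      obtain ⟨j, hj⟩ := (hPp.to_sup_of_normal_right' hQp hPQ).exists_card_eq
      have h1 := Nat.card_le_card_of_injective _ hinj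
      rw [Nat.card_prod, card_map_of_injective L.subtype_injective,
        card_map_of_injective K.subtype_injective, hj] at h1
      have h2 := Nat.le_of_dvd Nat.card_pos hP4
      have h3 := Nat.le_of_dvd Nat.card_pos hQ4
      have h16 : 2 ^ 3 ≤ 2 ^ j := by nlinarith
      exact h8 ((pow_dvd_pow 2 ((Nat.pow_le_pow_iff_right (by norm_num)).1 h16)).trans
        (hj ▸ card_subgroup_dvd_card _))
    · -- a common involution is central in `L` and `K`
      obtain ⟨⟨x, hx⟩, hx1'⟩ := ne_bot_iff_exists_ne_one.1 hd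
      have hx1 : x ≠ 1 := fun e => hx1' (Subtype.ext e)
      set C := L ⊓ centralizer (L : Set G) with hC
      have hxC : x ∈ C := by
        obtain ⟨⟨l, -, hl⟩, ⟨k, -, hk⟩⟩ := hx
        refine ⟨hl ▸ l.2, mem_centralizer_iff.2 fun y hy => ?_⟩
        exact hk ▸ (hLK y hy _ k.2).eq
      obtain ⟨m, hm⟩ := hPp ⟨x, hx.1⟩
      have h2C : 2 ∣ Nat.card C := by
        obtain ⟨i, -, hi⟩ := (Nat.dvd_prime_pow Nat.prime_two).1
          (orderOf_dvd_of_pow_eq_one (congrArg Subtype.val hm : x ^ 2 ^ m = 1))
        refine dvd_trans ?_ ((Subgroup.orderOf_dvd_natCard _ hxC))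
        rw [hi]
        refine dvd_pow_self 2 fun e => hx1 (orderOf_eq_one_iff.1 ?_)
        rw [hi, e, pow_zero]
      haveI : Group.IsSolvable ↥(C.subgroupOf L) := Group.isSolvable_of_comm fun a b =>
        Subtype.ext (Subtype.ext (mem_centralizer_iff.1 (mem_subgroupOf.1 b.2).2 a.1.1 a.1.2))
      haveI : (C.subgroupOf L).Normal := ⟨fun c hc l => by
        rw [mem_subgroupOf] at hc ⊢
        show (l : G) * (c : G) * (l : G)⁻¹ ∈ C
        rw [mem_centralizer_iff.1 hc.2 l l.2, mul_inv_cancel_right]
        exact hc⟩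
      have h4L : ¬ 4 ∣ Nat.card (L ⧸ C.subgroupOf L) := fun h4 => h8 (by
        refine (mul_dvd_mul h4 h2C).trans ?_
        rw [← Nat.card_congr (subgroupOfEquivOfLe (inf_le_left : C ≤ L)).toEquiv,
          ← card_eq_card_quotient_mul_card_subgroup]
        exact card_subgroup_dvd_card L)
      refine hL (CfsgLib.Sectional.OddCoreA8.isSolvable_of_ker (QuotientGroup.mk' (C.subgroupOf L)) ?_
        (isSolvable_of_not_four h4L))
      rw [QuotientGroup.ker_mk']
      infer_instance
  obtain ⟨N, hN, hNs, hna, hcent⟩ := exists_simple_normal hcomm hss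
  haveI := hN
  haveI := hNs
  refine ⟨N, hN, ?_, hK N hna (fun h => h8 (h.trans (card_subgroup_dvd_card N))), hcent⟩
  refine Nat.not_even_iff_odd.1 fun he => h8 ?_
  rw [← N.card_mul_index]
  exact mul_dvd_mul (hfour N fun h => hna ⟨⟨IsSimpleGroup.comm_iff_isSolvable.2 h⟩⟩) (even_iff_two_dvd.1 he)

end CfsgLib.GWKlein.Consumers
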