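import Cfsg.Agent.Lib.GWKlein.Consumers.AbelianSimple
import Cfsg.Agent.Lib.Involution.UnitarySylowGroup.Abelian
import Cfsg.Agent.Lib.Components.Signalizer.Basic

/-!
# Groups with abelian Sylow 2-subgroups and solvable centralisers of involutions

Modulo the odd core such a group, if not solvable, has a simple normal subgroup with trivial
centraliser.
-/

set_option autoImplicit false
set_option linter.style.haveILetI false
set_option linter.unusedSectionVars false

namespace CfsgLib.GWKlein.Consumers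

open Subgroup CfsgLib.Involution.UnitarySylowGroup

universe u

variable {G : Type u} [Group G] [Finite G]

/-- An involution in a non-solvable subgroup. -/
theorem exists_invol_of_not_solvable {L : Subgroup G} (h : ¬ Group.IsSolvable L) :
    ∃ t ∈ L, orderOf t = 2 := by
  haveI : Fact (Nat.Prime 2) := ⟨Nat.prime_two⟩
  obtain ⟨t, ht⟩ := exists_prime_orderOf_dvd_card' (G := L) 2 (by
    by_contra hne
    exact h (Cfsg.Agent.S0205.result (Nat.not_even_iff_odd.1 fun he => hne he.two_dvd)))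
  exact ⟨t, t.2, by rw [Subgroup.orderOf_coe, ht]⟩

/-- Two commuting subgroups cannot both be non-solvable when centralisers of involutions are solvable. -/
theorem solvable_of_commute (hC : ∀ t : G, orderOf t = 2 → Group.IsSolvable ↥(centralizer ({t} : Set G)))
    {L K : Subgroup G} (hL : ¬ Group.IsSolvable L) (hcomm : ∀ l ∈ L, ∀ k ∈ K, Commute l k) :
    Group.IsSolvable K := by
  obtain ⟨t, ht, hto⟩ := exists_invol_of_not_solvable hL
  haveI := hC t hto
  exact Group.isSolvable_of_isSolvable_injective (f := inclusion (show K ≤ centralizer ({t} : Set G)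
    from fun k hk => mem_centralizer_singleton_iff.2 (hcomm t ht k hk).eq.symm)) (inclusion_injective _)

/-- The simple normal subgroup. -/
theorem exists_simple_normal [Nontrivial G]
    (hC : ∀ L K : Subgroup G, ¬ Group.IsSolvable L → (∀ l ∈ L, ∀ k ∈ K, Commute l k) → Group.IsSolvable K)
    (hss : ∀ N : Subgroup G, N.Normal → Group.IsSolvable ↥N → N = ⊥) :
    ∃ N : Subgroup G, N.Normal ∧ IsSimpleGroup N ∧ ¬ IsMulCommutative N ∧ centralizer (N : Set G) = ⊥ := by
  classical
  obtain ⟨N, ⟨hNn, hN1⟩, hNmin⟩ : ∃ N, _root_.Minimal (fun N : Subgroup G => N.Normal ∧ N ≠ ⊥) N :=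
    (Set.toFinite {N : Subgroup G | N.Normal ∧ N ≠ ⊥}).exists_minimal ⟨⊤, inferInstance, top_ne_bot⟩
  haveI := hNn
  have hNs : ¬ Group.IsSolvable N := fun h => hN1 (hss N hNn h)
  have hmap : ∀ (X : Subgroup G) (g : G), Group.IsSolvable X → Group.IsSolvable (X.map (MulAut.conj g).toMonoidHom) := by
    intro X g hX
    haveI := hX
    exact Group.isSolvable_of_surjective (f := ((MulAut.conj g).toMonoidHom.subgroupMap X)) (MonoidHom.subgroupMap_surjective _ _)
  set P := fun L : Subgroup G => L ≤ N ∧ N ≤ normalizer (L : Set G) with hP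
  have hPconj : ∀ L g, P L → P (L.map (MulAut.conj g).toMonoidHom) := by
    rintro L g ⟨h1, h2⟩
    refine ⟨?_, ?_⟩
    · rintro _ ⟨l, hl, rfl⟩
      simpa using hNn.conj_mem l (h1 hl) g
    · intro n hn
      have hn' : g⁻¹ * n * g ∈ normalizer (L : Set G) :=
        h2 (by have := hNn.conj_mem n hn g⁻¹; rwa [inv_inv] at this)
      rw [mem_normalizer_iff]
      intro y
      simp only [mem_map_equiv, MulAut.conj_symm_apply]
      rw [mem_normalizer_iff.1 hn' (g⁻¹ * y * g)]
      rw [show g⁻¹ * n * g * (g⁻¹ * y * g) * (g⁻¹ * n * g)⁻¹ = g⁻¹ * (n * y * n⁻¹) * g by group]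
  have hnosolv : ∀ L, P L → Group.IsSolvable L → L = ⊥ := by
    obtain ⟨R, ⟨hR, hRs⟩, hRmax⟩ : ∃ R, _root_.Maximal (fun R : Subgroup G => P R ∧ Group.IsSolvable R) R :=
      (Set.toFinite {R : Subgroup G | P R ∧ Group.IsSolvable R}).exists_maximal
        ⟨⊥, ⟨bot_le, fun n _ => mem_normalizer_iff.2 fun y => by simp⟩, inferInstance⟩
    have hjoin : ∀ L, P L → Group.IsSolvable L → L ≤ R := by
      intro L hL hLs
      have hn : L ≤ normalizer (R : Set G) := hL.1.trans hR.2
      refine le_sup_right.trans (hRmax ⟨⟨sup_le hR.1 hL.1, ?_⟩, CfsgLib.Components.Signalizer.isSolvable_sup hn hRs hLs⟩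
        le_sup_left)
      intro n hn
      have h1 := mem_normalizer_iff_map_conj_eq.1 (hR.2 hn)
      have h2 := mem_normalizer_iff_map_conj_eq.1 (hL.2 hn)
      rw [mem_normalizer_iff_map_conj_eq, Subgroup.map_sup, h1, h2]
    have hRn : R.Normal := ⟨fun r hr g => hjoin _ (hPconj R g hR) (hmap R g hRs) ⟨r, hr, by simp⟩⟩
    intro L hL hLs
    rw [eq_bot_iff, ← hss R hRn hRs]
    exact hjoin L hL hLs
  obtain ⟨L, ⟨hL, hL1⟩, hLmin⟩ : ∃ L, _root_.Minimal (fun L : Subgroup G => P L ∧ L ≠ ⊥) L :=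
    (Set.toFinite {L : Subgroup G | P L ∧ L ≠ ⊥}).exists_minimal ⟨N, ⟨le_rfl, le_normalizer⟩, hN1⟩
  have hLs : ¬ Group.IsSolvable L := fun h => hL1 (hnosolv L hL h)
  have hLN : L = N := by
    by_contra hne
    obtain ⟨g, hg⟩ : ∃ g : G, L.map (MulAut.conj g).toMonoidHom ≠ L := by
      by_contra h
      push Not at h
      exact hne (le_antisymm hL.1 (hNmin ⟨⟨fun l hl g => (h g) ▸ ⟨l, hl, by simp⟩⟩, hL1⟩ hL.1))
    set L' := L.map (MulAut.conj g).toMonoidHom with hL'
    have hL'P := hPconj L g hL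
    have hinf : L ⊓ L' = ⊥ := by
      by_contra h
      have h1 := hLmin ⟨⟨inf_le_left.trans hL.1, fun n hn => inf_normalizer_le_normalizer_inf ⟨hL.2 hn, hL'P.2 hn⟩⟩, h⟩ inf_le_left
      refine hg (eq_of_le_of_card_ge (h1.trans inf_le_right) ?_).symm
      exact le_of_eq (Nat.card_congr (L.equivMapOfInjective _ (MulAut.conj g).injective).toEquiv).symm
    have hcomm : ∀ l ∈ L, ∀ k ∈ L', Commute l k := by
      intro l hl k hk
      refine mul_inv_eq_iff_eq_mul.1 (mul_inv_eq_one.1 (mem_bot.1 (hinf ▸ (⟨?_, ?_⟩ : l * k * l⁻¹ * k⁻¹ ∈ L ⊓ L'))))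
      · rw [show l * k * l⁻¹ * k⁻¹ = l * (k * l⁻¹ * k⁻¹) by group]
        exact mul_mem hl ((mem_normalizer_iff.1 (hL.2 (hL'P.1 hk)) _).1 (inv_mem hl))
      · exact L'.mul_mem ((mem_normalizer_iff.1 (hL'P.2 (hL.1 hl)) _).1 hk) (L'.inv_mem hk)
    have h := hC L L' hLs hcomm
    let e := L.equivMapOfInjective (MulAut.conj g).toMonoidHom (MulAut.conj g).injective
    haveI := h
    exact hLs (Group.isSolvable_of_isSolvable_injective (f := e.toMonoidHom) e.injective)
  refine ⟨N, hNn, ?_, fun hc => hNs (Group.isSolvable_of_comm hc.is_comm.comm), ?_⟩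
  · haveI : Nontrivial N := (nontrivial_iff_ne_bot N).2 hN1
    refine ⟨fun M hM => ?_⟩
    by_cases hM1 : M = ⊥
    · exact Or.inl hM1
    refine Or.inr ?_
    have hMP : P (M.map N.subtype) := by
      refine ⟨map_subtype_le M, fun n hn => mem_normalizer_iff_map_conj_eq.2 ?_⟩
      refine eq_of_le_of_card_ge ?_ (le_of_eq
        (Nat.card_congr ((M.map N.subtype).equivMapOfInjective _ (MulAut.conj n).injective).toEquiv))
      rintro _ ⟨_, ⟨m, hm, rfl⟩, rfl⟩
      exact ⟨⟨n, hn⟩ * m * ⟨n, hn⟩⁻¹, hM.conj_mem m hm _, by simp⟩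
    have h1 : N ≤ M.map N.subtype := by
      have h2 : M.map N.subtype ≠ ⊥ := fun h => hM1 ((map_eq_bot_iff_of_injective _ N.subtype_injective).1 h)
      subst hLN
      exact hLmin ⟨hMP, h2⟩ hMP.1
    rw [eq_top_iff]
    intro x _
    exact (mem_map_iff_mem N.subtype_injective).1 (h1 x.2)
  · exact hss _ inferInstance (hC N _ hNs fun l hl k hk =>
      mem_centralizer_iff.1 hk l hl)

/-- A non-solvable group with trivial odd core, abelian Sylow 2-subgroups and solvable centralisers
of involutions has a normal `PSL(2,q)` with trivial centraliser. -/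
theorem exists_smallL2 (hK : SimpleKlein.{u}) (S : Sylow 2 G) (hS : IsMulCommutative ↥(S : Subgroup G))
    (hC : ∀ t : G, orderOf t = 2 → Group.IsSolvable ↥(centralizer ({t} : Set G)))
    (hO : Cfsg.oddCore G = ⊥) (hns : ¬ Group.IsSolvable G) :
    ∃ N : Subgroup G, N.Normal ∧ IsSmallL2 N ∧ centralizer (N : Set G) = ⊥ := by
  classical
  haveI : Fact (Nat.Prime 2) := ⟨Nat.prime_two⟩
  haveI : Nontrivial G := by
    by_contra h
    rw [not_nontrivial_iff_subsingleton] at h
    exact hns inferInstance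
  have hss : ∀ N : Subgroup G, N.Normal → Group.IsSolvable ↥N → N = ⊥ := by
    intro N hN hNs
    haveI := hN
    haveI := hNs
    by_contra hN1
    haveI : Nontrivial N := (nontrivial_iff_ne_bot N).2 hN1
    -- the Fitting subgroup of `N` is a nontrivial 2-group normal in `G`
    set F := (Cfsg.fittingSubgroup N).map N.subtype with hF
    haveI hFn : F.Normal := inferInstance
    have hF1 : F ≠ ⊥ := fun h => CfsgLib.Solvable.Cores.fittingSubgroup_ne_bot (G := N)
      ((map_eq_bot_iff_of_injective _ N.subtype_injective).1 h)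
    have hF2 : IsPGroup 2 F := by
      have hcore : Cfsg.pPrimeCore 2 N = ⊥ := by
        have h1 : ((Cfsg.pPrimeCore 2 N).map N.subtype) ≤ Cfsg.oddCore G := CfsgLib.Solvable.Cores.le_pPrimeCore
          (by rw [card_map_of_injective N.subtype_injective]; exact CfsgLib.Solvable.Cores.coprime_card_pPrimeCore 2)
        rw [hO, le_bot_iff, map_eq_bot_iff_of_injective _ N.subtype_injective] at h1
        exact h1
      exact ((CfsgLib.Solvable.Cores.fittingSubgroup_eq_pCore 2 hcore) ▸
        CfsgLib.Solvable.Cores.isPGroup_pCore 2 : IsPGroup 2 (Cfsg.fittingSubgroup N)).map _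
    have hFS : F ≤ (S : Subgroup G) := by
      obtain ⟨T, hT⟩ := hF2.exists_le_sylow
      obtain ⟨g, hg⟩ := MulAction.exists_smul_eq G T S
      intro x hx
      rw [← hg]
      exact ⟨g⁻¹ * x * g, hT (by simpa using hFn.conj_mem x hx g⁻¹), by simp [mul_assoc]⟩
    have hSC : (S : Subgroup G) ≤ centralizer (F : Set G) := fun s hs => mem_centralizer_iff.2 fun x hx =>
      congrArg Subtype.val (hS.is_comm.comm ⟨x, hFS hx⟩ ⟨s, hs⟩)
    haveI : Nontrivial F := (nontrivial_iff_ne_bot F).2 hF1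
    obtain ⟨k, hk⟩ := hF2.exists_card_eq
    obtain ⟨t, ht⟩ := exists_prime_orderOf_dvd_card' (G := F) 2 (by
      rw [hk]
      refine dvd_pow_self 2 fun e => ?_
      rw [e, pow_zero] at hk
      have := Finite.one_lt_card (α := F)
      omega)
    haveI := hC t (by rw [Subgroup.orderOf_coe, ht])
    haveI : Group.IsSolvable ↥(centralizer (F : Set G)) := Group.isSolvable_of_isSolvable_injective
      (f := inclusion (centralizer_le (Set.singleton_subset_iff.2 t.2) :
        centralizer (F : Set G) ≤ centralizer ({(t : G)} : Set G))) (inclusion_injective _)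
    have hQ : Group.IsSolvable (G ⧸ centralizer (F : Set G)) := Cfsg.Agent.S0205.result (by
      refine Nat.not_even_iff_odd.1 fun he => S.not_dvd_index ?_
      exact ((even_iff_two_dvd.1 he).trans (dvd_of_eq (index_eq_card _).symm)).trans (index_dvd_of_le hSC))
    refine hns (CfsgLib.Sectional.OddCoreA8.isSolvable_of_ker (QuotientGroup.mk' (centralizer (F : Set G))) ?_ hQ)
    rw [QuotientGroup.ker_mk']
    infer_instance
  obtain ⟨N, hN, hNsimple, hna, hcent⟩ :=
    exists_simple_normal (fun L K hL hLK => solvable_of_commute hC hL hLK) hss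
  refine ⟨N, hN, ?_, hcent⟩
  haveI := hN
  haveI := hNsimple
  obtain ⟨T⟩ : Nonempty (Sylow 2 N) := inferInstance
  refine isSmallL2_of_simple hK hna T ?_ fun t ht => ?_
  · obtain ⟨U, hU⟩ := (T.2.map N.subtype).exists_le_sylow
    obtain ⟨g, hg⟩ := MulAction.exists_smul_eq G U S
    have hUc : ∀ a ∈ (U : Subgroup G), ∀ b ∈ (U : Subgroup G), a * b = b * a := fun a ha b hb => by
      have h1 : g * a * g⁻¹ ∈ (S : Subgroup G) := hg ▸ ⟨a, ha, rfl⟩
      have h2 : g * b * g⁻¹ ∈ (S : Subgroup G) := hg ▸ ⟨b, hb, rfl⟩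
      exact (Commute.conj_iff g).1 (congrArg Subtype.val (hS.is_comm.comm ⟨_, h1⟩ ⟨_, h2⟩))
    exact ⟨⟨fun a b => Subtype.ext (Subtype.ext (hUc _ (hU ⟨_, a.2, rfl⟩) _ (hU ⟨_, b.2, rfl⟩)))⟩⟩
  · haveI := hC (t : G) (by rw [Subgroup.orderOf_coe, ht])
    refine Group.isSolvable_of_isSolvable_injective
      (f := (N.subtype.comp (centralizer ({t} : Set N)).subtype).codRestrict (centralizer ({(t : G)} : Set G))
        fun c => mem_centralizer_singleton_iff.2 (congrArg Subtype.val (mem_centralizer_singleton_iff.1 c.2))) ?_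
    exact fun a b h => Subtype.ext (Subtype.ext (congrArg Subtype.val h :))

/-- The statement of S3188, given the Klein four theorem. -/
theorem abelian_solvable_centralizers (hK : SimpleKlein.{u}) (S : Sylow 2 G)
    (hS : IsMulCommutative ↥(S : Subgroup G))
    (hC : ∀ t : G, orderOf t = 2 → Group.IsSolvable ↥(centralizer ({t} : Set G))) :
    Group.IsSolvable G ∨
      ∃ (F : Type) (_ : Field F) (_ : Fintype F),
        (((Fintype.card F % 8 = 3 ∨ Fintype.card F % 8 = 5) ∧ 5 ≤ Fintype.card F) ∨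
          (∃ n : ℕ, 2 ≤ n ∧ Fintype.card F = 2 ^ n)) ∧
        ∃ N : Subgroup (G ⧸ Cfsg.oddCore G), N.Normal ∧
          Nonempty (↥N ≃* Matrix.ProjectiveSpecialLinearGroup (Fin 2) F) ∧
          centralizer (N : Set (G ⧸ Cfsg.oddCore G)) = ⊥ := by
  classical
  haveI : Fact (Nat.Prime 2) := ⟨Nat.prime_two⟩
  by_cases hns : Group.IsSolvable G
  · exact Or.inl hns
  refine Or.inr ?_
  set O := Cfsg.oddCore G with hO
  set π := QuotientGroup.mk' O with hπ
  have hπs : Function.Surjective π := QuotientGroup.mk'_surjective O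
  have hodd : Odd (Nat.card O) := Nat.coprime_two_right.1 (CfsgLib.Solvable.Cores.coprime_card_pPrimeCore 2)
  let S' := S.mapSurjective hπs
  have hS' : IsMulCommutative ↥(S' : Subgroup (G ⧸ O)) := by
    refine ⟨⟨?_⟩⟩
    rintro ⟨_, a, ha, rfl⟩ ⟨_, b, hb, rfl⟩
    refine Subtype.ext ?_
    show π a * π b = π b * π a
    rw [← map_mul, ← map_mul]
    exact congrArg π (congrArg Subtype.val (hS.is_comm.comm ⟨a, ha⟩ ⟨b, hb⟩))
  have hns' : ¬ Group.IsSolvable (G ⧸ O) := fun h => hns (CfsgLib.Sectional.OddCoreA8.isSolvable_of_ker π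
    (by rw [hπ, QuotientGroup.ker_mk']; exact Cfsg.Agent.S0205.result hodd) h)
  have hC' : ∀ z : G ⧸ O, orderOf z = 2 → Group.IsSolvable ↥(centralizer ({z} : Set (G ⧸ O))) := by
    intro z hz
    obtain ⟨x, rfl⟩ := hπs z
    obtain ⟨k, hk⟩ : ∃ k, orderOf x = 2 * k := hz ▸ orderOf_map_dvd π x
    -- the odd part of the order is killed
    have hxo : Odd k := by
      by_contra hev
      rw [Nat.not_odd_iff_even] at hev
      obtain ⟨j, rfl⟩ := hev
      have h1 : x ^ 2 ∈ O := (QuotientGroup.eq_one_iff _).1 (by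
        show π (x ^ 2) = 1
        rw [map_pow]; exact orderOf_dvd_iff_pow_eq_one.1 (dvd_of_eq hz))
      have h2 : Odd (orderOf (x ^ 2)) := hodd.of_dvd_nat (orderOf_dvd_natCard _ h1)
      rw [orderOf_pow_of_dvd two_ne_zero (hk ▸ dvd_mul_right 2 _), hk, Nat.mul_div_cancel_left _ (by norm_num)] at h2
      exact Nat.not_even_iff_odd.2 h2 ⟨j, rfl⟩
    have ht : orderOf (x ^ k) = 2 := by
      rw [orderOf_pow_of_dvd (by rintro rfl; simp at hxo) (hk ▸ dvd_mul_left k 2), hk,
        Nat.mul_div_cancel _ (Nat.pos_of_ne_zero (by rintro rfl; simp at hxo))]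
    have hzt : π x = π (x ^ k) := by
      obtain ⟨j, rfl⟩ := hxo
      rw [map_pow, pow_succ, pow_mul, orderOf_dvd_iff_pow_eq_one.1 (dvd_of_eq hz), one_pow, one_mul]
    rw [hzt]
    exact isSolvable_centralizer_quotient O hodd (by rw [← ht, pow_orderOf_eq_one]) (hC _ ht)
  obtain ⟨N, hN, ⟨F, i1, i2, hq, he⟩, hcent⟩ :=
    exists_smallL2 hK S' hS' hC' CfsgLib.Coprime.OneClassInvolutions.pPrimeCore_quotient_self hns'
  exact ⟨F, i1, i2, hq, N, hN, he, hcent⟩

end CfsgLib.GWKlein.Consumers
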