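import Cfsg.Agent.Lib.GWKlein.Consumers.Hyp
import Cfsg.Agent.Lib.Involution.UnitarySylowGroup.Tools
import Cfsg.Agent.Lib.KGroups.AbelianTwo.Linear
import Cfsg.Agent.Lib.KGroups.AbelianTwo.Exceptional
import Cfsg.Agent.Lib.KGroups.AbelianTwo.SLTwo
import Cfsg.Agent.Lib.FTApps.RankTwoTypes
import Cfsg.Agent.Lib.Involution.SEModule.Main
import Cfsg.Agent.S0018
import Cfsg.Agent.S2798

/-!
# Simple groups with abelian Sylow 2-subgroups and solvable centralisers of involutions

Rank at most two leaves the Klein four case.  From rank three on the odd cores of the centralisers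
are a solvable signalizer functor, whose closure gives a strongly embedded subgroup.
-/

set_option autoImplicit false
set_option linter.style.haveILetI false
set_option linter.unusedSectionVars false

namespace CfsgLib.GWKlein.Consumers

open Subgroup CfsgLib.Involution.UnitarySylowGroup

universe u

variable {G : Type u} [Group G] [Finite G]

theorem not_isQuasiDihedral_of_comm {S : Type*} [Group S] (hc : ∀ a b : S, a * b = b * a) :
    ¬ Cfsg.IsQuasiDihedral S := by
  rintro ⟨n, hn, -, x, y, hx, hy, h⟩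
  rw [hc y x, mul_inv_cancel_right] at h
  have h1 : x ^ (2 ^ (n - 1) - 1) = x ^ 1 := by rw [pow_one]; exact h.symm
  rw [pow_inj_mod, hx] at h1
  have e : 2 ^ (n - 1) * 2 = 2 ^ n := by rw [← pow_succ]; congr 1; omega
  have h4 : 2 ^ 2 ≤ 2 ^ (n - 1) := Nat.pow_le_pow_right (by norm_num) (by omega)
  rw [Nat.mod_eq_of_lt (by omega), Nat.mod_eq_of_lt (by omega)] at h1
  omega

theorem not_isWreathed_of_comm {S : Type*} [Group S] (hc : ∀ a b : S, a * b = b * a) :
    ¬ Cfsg.IsWreathed S := by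
  rintro ⟨n, hn, -, x, y, z, hx, -, hd, -, h⟩
  rw [hc z x, mul_inv_cancel_right] at h
  subst h
  rw [inf_idem, zpowers_eq_bot] at hd
  rw [hd, orderOf_one] at hx
  have := Nat.one_lt_two_pow (n := n) (by omega)
  omega

/-- An abelian Sylow subgroup of a simple group with at most three involutions is a four-group. -/
theorem isKleinFour_of_rank_two [IsSimpleGroup G] (hna : ¬ IsMulCommutative G) (S : Sylow 2 G)
    (hS : IsMulCommutative ↥(S : Subgroup G)) (hr : Cfsg.PRankLE 2 2 G) :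
    IsKleinFour ↥(S : Subgroup G) := by
  classical
  haveI : Fact (Nat.Prime 2) := ⟨Nat.prime_two⟩
  have hc : ∀ a b : ↥(S : Subgroup G), a * b = b * a := hS.is_comm.comm
  obtain ⟨P⟩ : Nonempty (Sylow 2 (Cfsg.PSU 3 (GaloisField 2 4) 4)) := inferInstance
  haveI : Fintype (GaloisField 2 4) := Fintype.ofFinite _
  have hF : Fintype.card (GaloisField 2 4) = 16 := by
    rw [← Nat.card_eq_fintype_card, GaloisField.card 2 4 (by norm_num)]; norm_num
  rcases CfsgLib.FTApps.rank_two_sylow_types (fun X _ _ h => Cfsg.Agent.S0205.result h) hna hr S hF P with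
    ⟨n, hn, ⟨e⟩⟩ | h | h | ⟨⟨e⟩⟩
  · rcases eq_or_lt_of_le hn with rfl | hn'
    · exact ⟨by rw [Nat.card_congr e.toEquiv, DihedralGroup.nat_card],
        by rw [Monoid.exponent_eq_of_mulEquiv e, DihedralGroup.exponent]; rfl⟩
    · exfalso
      haveI : NeZero n := ⟨by omega⟩
      have h1 := congrArg e (hc (e.symm (DihedralGroup.r 1)) (e.symm (DihedralGroup.sr 0)))
      rw [map_mul, map_mul, e.apply_symm_apply, e.apply_symm_apply, DihedralGroup.r_mul_sr,
        DihedralGroup.sr_mul_r, DihedralGroup.sr.injEq, zero_sub, zero_add] at h1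
      have h2 : ((2 : ℕ) : ZMod n) = 0 := by
        push_cast
        rw [show (2 : ZMod n) = 1 + 1 by norm_num]
        nth_rewrite 2 [← h1]
        exact add_neg_cancel 1
      rw [ZMod.natCast_eq_zero_iff] at h2
      have := Nat.le_of_dvd (by norm_num) h2
      omega
  · exact absurd h (not_isQuasiDihedral_of_comm hc)
  · exact absurd h (not_isWreathed_of_comm hc)
  · exfalso
    haveI : CharP (GaloisField 2 4) 2 := charP_of_card_eq_prime_pow (f := 4) (by rw [hF]; norm_num)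
    refine CfsgLib.KGroups.AbelianTwo.not_psu_three (q := 4) (by rw [hF]; norm_num) fun Q => ?_
    obtain ⟨g, hg⟩ := MulAction.exists_smul_eq (Cfsg.PSU 3 (GaloisField 2 4) 4) Q P
    let eQ : ↥(Q : Subgroup (Cfsg.PSU 3 (GaloisField 2 4) 4)) ≃* ↥(P : Subgroup (Cfsg.PSU 3 (GaloisField 2 4) 4)) :=
      hg ▸ Q.equivSMul g
    refine ⟨⟨fun a b => eQ.injective (e.symm.injective ?_)⟩⟩
    simp only [map_mul]
    exact hc _ _

/-- The involutions of an abelian Sylow subgroup with the identity. -/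
def omegaOne (S : Subgroup G) (hS : ∀ a ∈ S, ∀ b ∈ S, a * b = b * a) : Subgroup G where
  carrier := {a | a ∈ S ∧ a * a = 1}
  one_mem' := ⟨one_mem _, one_mul 1⟩
  mul_mem' := fun {a b} ha hb => ⟨mul_mem ha.1 hb.1, by
    rw [(show Commute b a from hS b hb.1 a ha.1).mul_mul_mul_comm, ha.2, hb.2, one_mul]⟩
  inv_mem' := fun {a} ha => ⟨inv_mem ha.1, by rw [← mul_inv_rev, ha.2, inv_one]⟩

theorem pRankLE_two_of_omegaOne (S : Sylow 2 G) (hS : ∀ a ∈ (S : Subgroup G), ∀ b ∈ (S : Subgroup G), a * b = b * a)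
    (h : Nat.card (omegaOne (S : Subgroup G) hS) ≤ 4) : Cfsg.PRankLE 2 2 G := by
  haveI : Fact (Nat.Prime 2) := ⟨Nat.prime_two⟩
  intro A hA hA2
  have hAp : IsPGroup 2 A := fun a => ⟨1, Subtype.ext (by rw [pow_one, SubgroupClass.coe_pow]; exact hA2 _ a.2)⟩
  obtain ⟨T, hT⟩ := hAp.exists_le_sylow
  obtain ⟨g, hg⟩ := MulAction.exists_smul_eq G T S
  rw [← card_map_of_injective (f := (MulAut.conj g).toMonoidHom) (MulAut.conj g).injective (K := A)]
  refine (card_le_of_le ?_).trans h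
  rintro _ ⟨a, ha, rfl⟩
  refine ⟨?_, ?_⟩
  · rw [← hg]
    exact ⟨a, hT ha, rfl⟩
  · rw [← map_mul, ← pow_two, hA2 a ha, map_one]

/-- A simple group with abelian Sylow 2-subgroup of rank at least three and solvable centralisers of
involutions is `PSL(2,2^n)`. -/
theorem isSmallL2_of_rank_three [IsSimpleGroup G] (hna : ¬ IsMulCommutative G) (S : Sylow 2 G)
    (hS : ∀ a ∈ (S : Subgroup G), ∀ b ∈ (S : Subgroup G), a * b = b * a)
    (hC : ∀ t : G, orderOf t = 2 → Group.IsSolvable ↥(centralizer ({t} : Set G)))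
    (h8 : 2 ^ 3 ≤ Nat.card (omegaOne (S : Subgroup G) hS)) : IsSmallL2 G := by
  classical
  haveI : Fact (Nat.Prime 2) := ⟨Nat.prime_two⟩
  set T : Subgroup G := (S : Subgroup G) with hT
  set A := omegaOne T hS with hA
  have hns : ¬ Group.IsSolvable G := fun h => hna ⟨⟨IsSimpleGroup.comm_iff_isSolvable.2 h⟩⟩
  have hord : ∀ a ∈ A, a ≠ 1 → orderOf a = 2 := fun a ha ha1 =>
    orderOf_eq_prime (by rw [pow_two]; exact ha.2) ha1
  have hAc : ∀ a ∈ A, ∀ b ∈ A, a * b = b * a := fun a ha b hb => hS a ha.1 b hb.1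
  have hTC : ∀ a ∈ T, T ≤ centralizer ({a} : Set G) := fun a ha b hb =>
    mem_centralizer_singleton_iff.2 (hS b hb a ha)
  obtain ⟨hWodd, -⟩ := complete hAc (fun a ha => by rw [pow_two]; exact ha.2) h8
    fun a ha ha1 => hC a (hord a ha ha1)
  obtain ⟨a₀, ha₀, ha₀1⟩ : ∃ a ∈ A, a ≠ 1 := by
    haveI : Nontrivial A := Finite.one_lt_card_iff_nontrivial.1 (by omega)
    obtain ⟨a, ha⟩ := exists_ne (1 : A)
    exact ⟨a, a.2, fun e => ha (Subtype.ext e)⟩
  have heven : 2 ∣ Nat.card G := hord a₀ ha₀ ha₀1 ▸ orderOf_dvd_natCard a₀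
  have hTA : normalizer (T : Set G) ≤ normalizer (A : Set G) := fun g hg =>
    mem_normalizer_fintype fun a ha => ⟨(mem_normalizer_iff.1 hg a).1 ha.1, by
      rw [show g * a * g⁻¹ * (g * a * g⁻¹) = g * (a * a) * g⁻¹ by group, ha.2, mul_one, mul_inv_cancel]⟩
  have hTne : T ≠ ⊥ := fun e => ha₀1 (mem_bot.1 (e ▸ ha₀.1))
  obtain ⟨K, hK, hNK, hWK⟩ : ∃ K : Subgroup G, K ≠ ⊤ ∧ normalizer (T : Set G) ≤ K ∧
      ∀ a ∈ A, a ≠ 1 → coreC a ≤ K := by
    by_cases hW : closureW A = ⊥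
    · refine ⟨_, fun h => ?_, le_rfl, fun a ha ha1 => ((coreC_le_closureW ha ha1).trans hW.le).trans bot_le⟩
      rcases (normalizer_eq_top_iff.1 h).eq_bot_or_eq_top with e | e
      · exact hTne e
      · exact hna ⟨⟨fun x y => hS x (e ▸ mem_top x) y (e ▸ mem_top y)⟩⟩
    · refine ⟨normalizer (closureW A : Set G), fun h => ?_, hTA.trans (normalizer_closureW A),
        fun a ha ha1 => (coreC_le_closureW ha ha1).trans le_normalizer⟩
      rcases (normalizer_eq_top_iff.1 h).eq_bot_or_eq_top with e | e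
      · exact hW e
      · rw [e, card_top] at hWodd
        exact hWodd.not_two_dvd_nat heven
  have hSE : Cfsg.IsStronglyEmbedded K := se_of_centralizers S heven hK hNK fun a haT hao => by
    have ha : a ∈ A := ⟨haT, by rw [← pow_two, ← hao, pow_orderOf_eq_one]⟩
    have ha1 : a ≠ 1 := fun e => by rw [e, orderOf_one] at hao; omega
    haveI := hC a hao
    exact centralizer_le_of_closed S (hTC a haT) (Cfsg.Agent.S0018.result 2 (S.subtype (hTC a haT))
      ⟨⟨fun x y => Subtype.ext (Subtype.ext (hS _ (mem_subgroupOf.1 x.2) _ (mem_subgroupOf.1 y.2)))⟩⟩)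
      (hWK a ha ha1) hNK
  have hpe : Cfsg.IsStronglyPEmbedded 2 K := CfsgLib.Involution.SEModule.isStronglyPEmbedded hSE
  have hO : Cfsg.pPrimeCore 2 G = ⊥ := by
    rcases (inferInstance : (Cfsg.pPrimeCore 2 G).Normal).eq_bot_or_eq_top with e | e
    · exact e
    · have h := CfsgLib.Solvable.Cores.coprime_card_pPrimeCore (G := G) 2
      rw [e, card_top, Nat.coprime_two_right] at h
      exact absurd heven h.not_two_dvd_nat
  let e₀ : G ⧸ Cfsg.pPrimeCore 2 G ≃* G :=
    (QuotientGroup.quotientMulEquivOfEq hO).trans QuotientGroup.quotientBot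
  haveI : Nontrivial (G ⧸ Cfsg.pPrimeCore 2 G) := e₀.toEquiv.nontrivial
  haveI : IsSimpleGroup (G ⧸ Cfsg.pPrimeCore 2 G) :=
    IsSimpleGroup.isSimpleGroup_of_surjective e₀.symm.toMonoidHom e₀.symm.surjective
  have hcl : Cfsg.pElementClosure 2 (⊤ : Subgroup (G ⧸ Cfsg.pPrimeCore 2 G)) = ⊤ := by
    haveI : (Cfsg.pElementClosure 2 (⊤ : Subgroup (G ⧸ Cfsg.pPrimeCore 2 G))).Normal := by
      refine ⟨fun x hx g => ?_⟩
      induction hx using Subgroup.closure_induction with
      | mem y hy =>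
        obtain ⟨-, k, hk⟩ := hy
        exact subset_closure ⟨trivial, k, (MulEquiv.orderOf_eq (MulAut.conj g) y).trans hk⟩
      | one => simp
      | mul y z _ _ hy hz =>
        rw [show g * (y * z) * g⁻¹ = g * y * g⁻¹ * (g * z * g⁻¹) by group]
        exact mul_mem hy hz
      | inv y _ hy =>
        rw [show g * y⁻¹ * g⁻¹ = (g * y * g⁻¹)⁻¹ by group]
        exact inv_mem hy
    rcases Subgroup.Normal.eq_bot_or_eq_top (H := Cfsg.pElementClosure 2
      (⊤ : Subgroup (G ⧸ Cfsg.pPrimeCore 2 G))) inferInstance with e | e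
    · exfalso
      have h : e₀.symm a₀ ∈ Cfsg.pElementClosure 2 (⊤ : Subgroup (G ⧸ Cfsg.pPrimeCore 2 G)) :=
        subset_closure ⟨trivial, 1, by rw [MulEquiv.orderOf_eq, hord a₀ ha₀ ha₀1]; rfl⟩
      rw [e, mem_bot, MulEquiv.map_eq_one_iff] at h
      exact ha₀1 h
    · exact e
  let e₁ : ↥(Cfsg.pElementClosure 2 (⊤ : Subgroup (G ⧸ Cfsg.pPrimeCore 2 G))) ≃* G :=
    ((MulEquiv.subgroupCongr hcl).trans Subgroup.topEquiv).trans e₀
  have hab : CfsgLib.KGroups.AbelianTwo.AbTwo G := fun P => by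
    obtain ⟨g, hg⟩ := MulAction.exists_smul_eq G P S
    let eP : ↥(P : Subgroup G) ≃* ↥(S : Subgroup G) := hg ▸ P.equivSMul g
    refine ⟨⟨fun x y => eP.injective ?_⟩⟩
    rw [map_mul, map_mul]
    exact Subtype.ext (hS _ (eP x).2 _ (eP y).2)
  rcases Cfsg.Agent.S2798.result K hpe with h | ⟨F, _, _, hF2, hF4, ⟨e⟩⟩ | ⟨F, _, _, q, hq, hq4, hF, ⟨e⟩⟩ | h
  · exfalso
    obtain ⟨h1, -⟩ := h a₀ (hord a₀ ha₀ ha₀1)
    rw [hO, bot_sup_eq] at h1
    have hz : a₀ ∈ center G := mem_center_iff.2 fun g =>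
      (mem_centralizer_singleton_iff.1 (h1 ▸ mem_top g))
    rcases (inferInstance : (center G).Normal).eq_bot_or_eq_top with e | e
    · exact ha₀1 (mem_bot.1 (e ▸ hz))
    · exact hns (Group.isSolvable_of_comm fun x y => mem_center_iff.1 (e ▸ mem_top y) x)
  · obtain ⟨e'⟩ : Nonempty (Matrix.SpecialLinearGroup (Fin 2) F ≃*
        Matrix.ProjectiveSpecialLinearGroup (Fin 2) F) :=
      ⟨((QuotientGroup.quotientMulEquivOfEq
        CfsgLib.KGroups.AbelianTwo.center_sl2_char_two).trans QuotientGroup.quotientBot).symm⟩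
    obtain ⟨n, -, hn⟩ := FiniteField.card F 2
    refine ⟨F, inferInstance, inferInstance, Or.inr ⟨n, ?_, hn⟩, ⟨(e₁.symm.trans e).trans e'⟩⟩
    by_contra hlt
    have : 2 ^ (n : ℕ) ≤ 2 ^ 1 := Nat.pow_le_pow_right (by norm_num) (by omega)
    omega
  · exfalso
    obtain ⟨p, hp⟩ := CharP.exists F
    haveI : Fact p.Prime := ⟨CharP.char_is_prime F p⟩
    obtain ⟨n, -, hn⟩ := FiniteField.card F p
    have h2p : 2 ∣ p := Nat.prime_two.dvd_of_dvd_pow (n := n)
      (by rw [← hn, hF]; exact (even_iff_two_dvd.1 hq).trans (dvd_pow_self q two_ne_zero))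
    obtain rfl : p = 2 := ((Nat.prime_dvd_prime_iff_eq Nat.prime_two Fact.out).1 h2p).symm
    exact CfsgLib.KGroups.AbelianTwo.not_psu_three hF (hab.mk_witness ⟨e₁.symm.trans e⟩)
  · exfalso
    obtain ⟨F, _, _, m, hm1, hK, ⟨e⟩⟩ := h
    haveI : CharP F 2 := charP_of_card_eq_prime_pow hK
    exact CfsgLib.KGroups.AbelianTwo.not_suzuki hm1 hK (hab.mk_witness ⟨e₁.symm.trans e⟩)

/-- The simple groups with abelian Sylow 2-subgroups and solvable centralisers of involutions. -/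
theorem isSmallL2_of_simple (hK : SimpleKlein.{u}) [IsSimpleGroup G] (hna : ¬ IsMulCommutative G)
    (S : Sylow 2 G) (hS : IsMulCommutative ↥(S : Subgroup G))
    (hC : ∀ t : G, orderOf t = 2 → Group.IsSolvable ↥(centralizer ({t} : Set G))) : IsSmallL2 G := by
  have hS' : ∀ a ∈ (S : Subgroup G), ∀ b ∈ (S : Subgroup G), a * b = b * a := fun a ha b hb =>
    congrArg Subtype.val (hS.is_comm.comm ⟨a, ha⟩ ⟨b, hb⟩)
  by_cases h4 : Nat.card (omegaOne (S : Subgroup G) hS') ≤ 4
  · haveI hV := isKleinFour_of_rank_two hna S hS (pRankLE_two_of_omegaOne S hS' h4)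
    haveI : Fact (Nat.Prime 2) := ⟨Nat.prime_two⟩
    obtain ⟨F, i1, i2, -, h3, h, e⟩ := hK G hna fun h8 => by
      have := S.pow_dvd_card_of_pow_dvd_card (n := 3) h8
      rw [IsKleinFour.card_four] at this
      norm_num at this
    exact ⟨F, i1, i2, Or.inl ⟨h, by omega⟩, e⟩
  · haveI : Fact (Nat.Prime 2) := ⟨Nat.prime_two⟩
    obtain ⟨n, hn⟩ := (S.2.to_le (fun a (ha : a ∈ omegaOne (S : Subgroup G) hS') => ha.1)).exists_card_eq
    refine isSmallL2_of_rank_three hna S hS' hC ?_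
    rw [hn]
    refine Nat.pow_le_pow_right (by norm_num) ?_
    by_contra hlt
    have : 2 ^ n ≤ 2 ^ 2 := Nat.pow_le_pow_right (by norm_num) (by omega)
    omega

end CfsgLib.GWKlein.Consumers
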