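import Mathlib.GroupTheory.SpecificGroups.KleinFour
import Cfsg.Agent.Lib.GWKlein.Statement

/-!
# Consumers of the theorem on simple groups with a Klein four Sylow 2-subgroup

The consumers in this folder assume `SimpleKlein` and are applied to its proof in the statement files.
-/

set_option autoImplicit false

namespace CfsgLib.GWKlein.Consumers

universe u

/-- `PSL(2,q)` with `q ≡ 3, 5 (mod 8)`, `q ≥ 5`, or `q = 2^n`, `n ≥ 2`. -/
def IsSmallL2 (G : Type u) [Group G] : Prop :=
  ∃ (F : Type) (_ : Field F) (_ : Fintype F),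
    (((Fintype.card F % 8 = 3 ∨ Fintype.card F % 8 = 5) ∧ 5 ≤ Fintype.card F) ∨
      (∃ n : ℕ, 2 ≤ n ∧ Fintype.card F = 2 ^ n)) ∧
    Nonempty (G ≃* Matrix.ProjectiveSpecialLinearGroup (Fin 2) F)

end CfsgLib.GWKlein.Consumers
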